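import Cfsg.Agent.Lib.Helper17.E6I.Defs
import Cfsg.Agent.Lib.Helper65.E6I.A1

set_option autoImplicit false

namespace Cfsg.Agent.Lib.Helper15.E6I

open Cfsg.Agent.Lib.Helper17.E6I

variable {G : Type*} [Group G] {F : Type*} [Field F] (R : RS G F)

/-- [A3] commutators go up. -/
theorem V_comm {act : ℕ → Prop} (h : AddClosed R act) {s : ℕ} (hs : act s) (t : F) {k m : ℕ}
    (hm : ∀ r j, act r → k ≤ r → R.add s r = some j → m ≤ j) {y : G} (hy : y ∈ V R act k) :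
    R.x s t * y * (R.x s t)⁻¹ * y⁻¹ ∈ V R act m := by
  unfold V at hy
  induction hy using Subgroup.closure_induction with
  | mem y hy =>
    obtain ⟨r, e, hr, hkr, rfl⟩ := hy
    rcases hadd : R.add s r with _ | j
    · have := R.comm_none s r (h.bd s hs).1 (h.bd s hs).2 (h.bd r hr).1 (h.bd r hr).2 hadd t e
      rw [this]
      have h1 : R.x r e * R.x s t * (R.x s t)⁻¹ * (R.x r e)⁻¹ = 1 := by group
      rw [h1]
      exact Subgroup.one_mem _
    · have := R.conj_some s r j (h.bd s hs).1 (h.bd s hs).2 (h.bd r hr).1 (h.bd r hr).2 hadd t e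
      rw [this]
      apply Cfsg.Agent.Lib.Helper65.E6I.V_normal R h hr
      exact Subgroup.subset_closure ⟨j, _, h.add s r j hs hr hadd, hm r j hr hkr hadd, rfl⟩
  | one =>
    have h1 : R.x s t * 1 * (R.x s t)⁻¹ * (1 : G)⁻¹ = 1 := by group
    rw [h1]
    exact Subgroup.one_mem _
  | mul y1 y2 hy1 hy2 ih1 ih2 =>
    have h1 : R.x s t * (y1 * y2) * (R.x s t)⁻¹ * (y1 * y2)⁻¹ =
        (R.x s t * y1 * (R.x s t)⁻¹ * y1⁻¹) *
          (y1 * (R.x s t * y2 * (R.x s t)⁻¹ * y2⁻¹) * y1⁻¹) := by group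
    rw [h1]
    exact Subgroup.mul_mem _ ih1
      (Cfsg.Agent.Lib.Helper65.E6I.V_normal' R h (k' := k) hy1 ih2)
  | inv y hy ih =>
    have h1 : R.x s t * y⁻¹ * (R.x s t)⁻¹ * y⁻¹⁻¹ =
        y⁻¹ * (R.x s t * y * (R.x s t)⁻¹ * y⁻¹)⁻¹ * y⁻¹⁻¹ := by group
    rw [h1]
    exact Cfsg.Agent.Lib.Helper65.E6I.V_normal' R h (k' := k) (Subgroup.inv_mem _ hy)
      (Subgroup.inv_mem _ ih)

end Cfsg.Agent.Lib.Helper15.E6I
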