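import Cfsg.Agent.Lib.Helper17.E6I.Defs
import Cfsg.Agent.Lib.Helper65.E6I.A2

set_option autoImplicit false

namespace Cfsg.Agent.Lib.Helper15.E6I

open Cfsg.Agent.Lib.Helper17.E6I

variable {G : Type*} [Group G] {F : Type*} [Field F] (R : RS G F)

theorem A4_lp_congr (L : List ℕ) (c c' : ℕ → F) (hc : ∀ r ∈ L, c r = c' r) :
    lp R L c = lp R L c' := by
  unfold Cfsg.Agent.Lib.Helper17.E6I.lp
  congr 1
  apply List.map_congr_left
  intro r hr
  rw [hc r hr]

theorem A4_aux {act : ℕ → Prop} (h : AddClosed R act) (d : ℕ) :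
    ∀ k : ℕ, k + d = R.n → ∀ y : G, y ∈ V R act k →
    ∃ e : ℕ → F, (∀ r, ¬ (act r ∧ k ≤ r) → e r = 0) ∧ y = lp R (List.range' k d) e := by
  induction d with
  | zero =>
    intro k hk y hy
    refine ⟨fun _ => 0, fun _ _ => rfl, ?_⟩
    have hbot : V R act k = ⊥ := by
      unfold V
      rw [Subgroup.closure_eq_bot_iff]
      rintro g ⟨r, t, hr, hkr, rfl⟩
      have := (h.bd r hr).2
      omega
    rw [hbot, Subgroup.mem_bot] at hy
    rw [hy]
    rfl
  | succ d ih =>
    intro k hk y hy
    obtain ⟨e0, y', hy', he0, rfl⟩ := Cfsg.Agent.Lib.Helper65.E6I.V_decomp R h hy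
    obtain ⟨e', he', rfl⟩ := ih (k + 1) (by omega) y' hy'
    refine ⟨Function.update e' k e0, ?_, ?_⟩
    · intro r hr
      by_cases hrk : r = k
      · subst hrk
        rw [Function.update_self]
        apply he0
        intro ha
        exact hr ⟨ha, le_rfl⟩
      · rw [Function.update_of_ne hrk]
        apply he'
        rintro ⟨ha, hk1⟩
        exact hr ⟨ha, by omega⟩
    · rw [List.range'_succ]
      have h1 : lp R (k :: List.range' (k + 1) d) (Function.update e' k e0) =
          R.x k (Function.update e' k e0 k) *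
            lp R (List.range' (k + 1) d) (Function.update e' k e0) := by
        unfold Cfsg.Agent.Lib.Helper17.E6I.lp
        rw [List.map_cons, List.prod_cons]
      rw [h1, Function.update_self]
      congr 1
      apply A4_lp_congr
      intro r hr
      rw [List.mem_range'_1] at hr
      rw [Function.update_of_ne (by omega)]

/-- [A4] normal form, by induction on `n - k` from A2 (`V act n = ⊥` since `act r → r < n`). -/
theorem V_form {act : ℕ → Prop} (h : AddClosed R act) {k : ℕ} (hk : k ≤ R.n) {y : G}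
    (hy : y ∈ V R act k) :
    ∃ e : ℕ → F, (∀ r, ¬ (act r ∧ k ≤ r) → e r = 0) ∧ y = lp R (List.range' k (R.n - k)) e :=
  A4_aux R h (R.n - k) k (by omega) y hy

end Cfsg.Agent.Lib.Helper15.E6I
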