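import Cfsg.Agent.Lib.Helper17.E6I.Defs
import Cfsg.Agent.Lib.Helper15.E6I.A4

set_option autoImplicit false

namespace Cfsg.Agent.Lib.Helper15.E6I

open Cfsg.Agent.Lib.Helper17.E6I

variable {G : Type*} [Group G] {F : Type*} [Field F] (R : RS G F)

theorem A5_x_zero (r : ℕ) : R.x r 0 = 1 := by
  have := R.x_add r 0 0
  rw [add_zero] at this
  exact mul_eq_left.1 this

theorem A5_lp_one (L : List ℕ) (c : ℕ → F) (hc : ∀ r ∈ L, c r = 0) : lp R L c = 1 := by
  induction L with
  | nil => rfl
  | cons a L ih =>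
    have h1 : lp R (a :: L) c = R.x a (c a) * lp R L c := by
      unfold Cfsg.Agent.Lib.Helper17.E6I.lp
      rw [List.map_cons, List.prod_cons]
    rw [h1, hc a (List.mem_cons_self), A5_x_zero, one_mul]
    exact ih (fun r hr => hc r (List.mem_cons_of_mem _ hr))

theorem A5_lp_single (p : ℕ) (a : F) (d : ℕ) :
    ∀ k : ℕ, k ≤ p → p < k + d → lp R (List.range' k d) (Pi.single p a) = R.x p a := by
  induction d with
  | zero => intro k h1 h2; omega
  | succ d ih =>
    intro k h1 h2
    rw [List.range'_succ]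
    have h3 : lp R (k :: List.range' (k + 1) d) (Pi.single p a) =
        R.x k ((Pi.single p a : ℕ → F) k) * lp R (List.range' (k + 1) d) (Pi.single p a) := by
      unfold Cfsg.Agent.Lib.Helper17.E6I.lp
      rw [List.map_cons, List.prod_cons]
    rw [h3]
    by_cases hkp : k = p
    · subst hkp
      rw [Pi.single_eq_same, A5_lp_one, mul_one]
      intro r hr
      rw [List.mem_range'_1] at hr
      rw [Pi.single_eq_of_ne (by omega)]
    · rw [Pi.single_eq_of_ne hkp, A5_x_zero, one_mul]
      exact ih (k + 1) (by omega) (by omega)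

/-- [A5] from A4 (`k = lo`) and `R.inj` (`x p a = lp (range' lo (n-lo)) (Pi.single p a)`). -/
theorem not_mem_V {act : ℕ → Prop} (h : AddClosed R act) {p : ℕ} (hp : R.lo ≤ p) (hp' : p < R.n)
    (hpa : ¬ act p) {a : F} (ha : R.x p a ∈ V R act R.lo) : a = 0 := by
  obtain ⟨e, he, hx⟩ := V_form R h (by omega : R.lo ≤ R.n) ha
  rw [← A5_lp_single R p a (R.n - R.lo) R.lo hp (by omega)] at hx
  have := R.inj _ _ hx p hp hp'
  rw [Pi.single_eq_same] at this
  rw [this]
  exact he p (fun hh => hpa hh.1)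

end Cfsg.Agent.Lib.Helper15.E6I
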